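import Mathlib
import Cfsg.Agent.Tits.Core
import Cfsg.Agent.Tits.Gate
import Cfsg.Agent.Tits.OppRes
import Cfsg.Agent.FixBN.Cox

/-!
# No automorphism of a finite spherical building maps every chamber to an opposite one (modular version)

Let `Δ` be a finite building of spherical type all of whose panels have `q + 1` chambers with `q` zero in the
commutative ring `R`. If an automorphism `θ` maps every chamber to an opposite one, and no type commutes with all the
others, then the number of chambers is nilpotent in `R`.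
-/

set_option autoImplicit false
set_option linter.unusedSectionVars false

namespace Cfsg.Agent.H606.Opp

open Cfsg.Agent.Tits.Core Cfsg.Agent.Tits.Core.Bldg Cfsg.Agent.Tits Cfsg.Agent.Tits.Exchange

variable {I : Type*} {M : CoxeterMatrix I} {W : Type*} [Group W] {cs : CoxeterSystem M W} {C : Type*}

local prefix:100 "ℓ" => cs.length

/-! ### Length computations -/

section Len

variable [F : OppRes.Cox cs]

theorem len_w0_simple (i : I) : ℓ (w0 cs * cs.simple i) + 1 = ℓ (w0 cs) := by
  have := F.len_w0_mul (cs.simple i)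
  rwa [cs.length_simple] at this

omit F in
theorem len_two {i j : I} (h : cs.simple i ≠ cs.simple j) : ℓ (cs.simple i * cs.simple j) = 2 := by
  rcases cs.length_mul_simple (cs.simple i) j with h1 | h1
  · rw [h1, cs.length_simple]
  · exfalso
    rw [cs.length_simple] at h1
    have h2 : ℓ (cs.simple i * cs.simple j) = 0 := by omega
    rw [cs.length_eq_zero_iff, mul_eq_one_iff_eq_inv, cs.inv_simple] at h2
    exact h h2

theorem len_three {i j : I} (h : cs.simple i * cs.simple j ≠ cs.simple j * cs.simple i) :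
    ℓ (cs.simple i * cs.simple j * cs.simple i) = 3 := by
  have hne : cs.simple i ≠ cs.simple j := fun h1 => h (by rw [h1])
  rcases fold cs (w := cs.simple j) (i := i) (j := i) (by rw [len_two hne, cs.length_simple])
    (by rw [len_two hne.symm, cs.length_simple]) with h1 | h1
  · rw [h1, cs.length_simple]
  · exact absurd h1 h

end Len

/-! ### Sums over spheres -/

section Spheres

open scoped Classical

variable [Fintype C] (Δ : Bldg cs C) {R : Type*} [CommRing R]

/-- The sum of `g` over the sphere of radius `w` around `c`. -/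
noncomputable def ssum (g : C → R) (c : C) (w : W) : R := ∑ d ∈ Finset.univ.filter (fun d => Δ.δ c d = w), g d

theorem ssum_def (g : C → R) (c : C) (w : W) :
    ssum Δ g c w = ∑ d ∈ Finset.univ.filter (fun d => Δ.δ c d = w), g d := rfl

theorem ssum_mul_simple (g : C → R) (c : C) {w : W} {i : I} (h : ℓ (w * cs.simple i) = ℓ w + 1) :
    ssum Δ g c (w * cs.simple i) =
      ∑ e ∈ Finset.univ.filter (fun e => Δ.δ c e = w), ssum Δ g e (cs.simple i) := by
  symm
  have h1 := Finset.sum_comm' (s := Finset.univ.filter (fun e => Δ.δ c e = w))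
    (t := fun e => Finset.univ.filter (fun d => Δ.δ e d = cs.simple i))
    (t' := Finset.univ.filter (fun d => Δ.δ c d = w * cs.simple i))
    (s' := fun d => Finset.univ.filter (fun e => Δ.δ c e = w ∧ Δ.δ e d = cs.simple i))
    (f := fun _ d => g d) (by
      intro e d
      simp only [Finset.mem_filter, Finset.mem_univ, true_and]
      constructor
      · rintro ⟨h1, h2⟩
        refine ⟨⟨h1, h2⟩, ?_⟩
        exact Δ.δ_mul_of h1 h2 (by rw [h, cs.length_simple])
      · rintro ⟨⟨h1, h2⟩, -⟩
        exact ⟨h1, h2⟩)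
  unfold ssum
  rw [h1]
  refine Finset.sum_congr rfl fun d hd => ?_
  rw [Finset.mem_filter] at hd
  rw [Finset.sum_const]
  have h2 : (Finset.univ.filter (fun e => Δ.δ c e = w ∧ Δ.δ e d = cs.simple i)).card = 1 := by
    rw [Finset.card_eq_one]
    obtain ⟨e, he1, he2⟩ := Δ.exists_between (x := c) (z := d) (v := w) (w := cs.simple i) hd.2
      (by rw [h, cs.length_simple])
    refine ⟨e, ?_⟩
    ext e'
    rw [Finset.mem_filter, Finset.mem_singleton]
    constructor
    · rintro ⟨-, h3, h4⟩
      exact Δ.between_unique (x := c) (z := d) (by rw [h, cs.length_simple]) h3 h4 he1 he2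
    · rintro rfl
      exact ⟨Finset.mem_univ _, he1, he2⟩
  rw [h2, one_smul]

/-- `g` is constant on the `k`-panels and has zero sums over the other panels. -/
structure Good (Δ : Bldg cs C) (g : C → R) (k : I) : Prop where
  zero : ∀ i, i ≠ k → ∀ x, g x + ssum Δ g x (cs.simple i) = 0
  const : ∀ x d, Δ.δ x d = cs.simple k → g d = g x
  card : ∀ x, ((Finset.univ.filter (fun d => Δ.δ x d = cs.simple k)).card : R) = 0

variable {Δ}

theorem Good.v1 {g : C → R} {k : I} (hg : Good Δ g k) (c : C) {a : W} (h : ℓ (a * cs.simple k) = ℓ a + 1) :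
    ssum Δ g c (a * cs.simple k) = 0 := by
  rw [ssum_mul_simple Δ g c h]
  refine Finset.sum_eq_zero fun e _ => ?_
  rw [ssum_def, Finset.sum_congr rfl (g := fun _ => g e), Finset.sum_const, nsmul_eq_mul, hg.card, zero_mul]
  intro d hd
  exact hg.const e d (Finset.mem_filter.1 hd).2

theorem Good.v2 {g : C → R} {k : I} (hg : Good Δ g k) (c : C) {a : W} {i : I}
    (h : ℓ (a * cs.simple i) = ℓ a + 1) (h0 : ssum Δ g c a = 0) : ssum Δ g c (a * cs.simple i) = 0 := by
  by_cases hi : i = k
  · subst hi; exact hg.v1 c h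
  · rw [ssum_mul_simple Δ g c h, Finset.sum_congr rfl (g := fun e => - g e), Finset.sum_neg_distrib, neg_eq_zero]
    · exact h0
    · intro e _
      exact eq_neg_of_add_eq_zero_right (hg.zero i hi e)

variable [F : OppRes.Cox cs]

/-- The sum over the chambers opposite to `c`. -/
theorem Good.w0_eq {g : C → R} {k : I} (hg : Good Δ g k) (c : C) : ssum Δ g c (w0 cs) = 0 := by
  have h1 := len_w0_simple (cs := cs) k
  have h2 := hg.v1 c (a := w0 cs * cs.simple k)
    (by rw [mul_assoc, cs.simple_mul_simple_self, mul_one]; omega)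
  rwa [mul_assoc, cs.simple_mul_simple_self, mul_one] at h2

theorem Good.w0_simple_eq {g : C → R} {k : I} (hg : Good Δ g k) (c : C) (i : I)
    (hi : i = k → ∃ j, cs.simple j * cs.simple k ≠ cs.simple k * cs.simple j) :
    ssum Δ g c (w0 cs * cs.simple i) = 0 := by
  by_cases hik : i = k
  · obtain ⟨j, hj⟩ := hi hik
    subst hik
    -- `w0 s = (w0 s j s) s j`
    have h3 : ℓ (cs.simple i * cs.simple j * cs.simple i) = 3 := len_three hj.symm
    have hne : cs.simple i ≠ cs.simple j := fun h1 => hj (by rw [h1])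
    have e0 := F.len_w0_mul (cs.simple i * cs.simple j * cs.simple i)
    have e1 := F.len_w0_mul (cs.simple i * cs.simple j)
    have e2 := F.len_w0_mul (cs.simple i)
    rw [len_two hne] at e1
    rw [cs.length_simple] at e2
    have h4 : w0 cs * (cs.simple i * cs.simple j * cs.simple i) * cs.simple i =
        w0 cs * (cs.simple i * cs.simple j) := by
      rw [mul_assoc, mul_assoc (cs.simple i * cs.simple j), cs.simple_mul_simple_self, mul_one]
    have h5 : w0 cs * (cs.simple i * cs.simple j) * cs.simple j = w0 cs * cs.simple i := by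
      rw [mul_assoc, mul_assoc (cs.simple i), cs.simple_mul_simple_self, mul_one]
    have h6 := hg.v1 c (a := w0 cs * (cs.simple i * cs.simple j * cs.simple i)) (by rw [h4]; omega)
    rw [h4] at h6
    have h7 := hg.v2 c (i := j) (by rw [h5]; omega) h6
    rwa [h5] at h7
  · -- `w0 s = (w0 s k) k`
    have hne : cs.simple i ≠ cs.simple k := fun h => hik (F.inj h)
    have e1 := F.len_w0_mul (cs.simple i * cs.simple k)
    have e2 := F.len_w0_mul (cs.simple i)
    rw [len_two hne] at e1
    rw [cs.length_simple] at e2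
    have h5 : w0 cs * (cs.simple i * cs.simple k) * cs.simple k = w0 cs * cs.simple i := by
      rw [mul_assoc, mul_assoc (cs.simple i), cs.simple_mul_simple_self, mul_one]
    have h6 := hg.v1 c (a := w0 cs * (cs.simple i * cs.simple k)) (by rw [h5]; omega)
    rwa [h5] at h6

/-! ### The function `h` -/

/-- The indicator function of `δ y c ∈ {w₀, w₀ s}`. -/
noncomputable def hfun (Δ : Bldg cs C) (R : Type*) [CommRing R] (s : I) (c y : C) : R :=
  if Δ.δ y c = w0 cs ∨ Δ.δ y c = w0 cs * cs.simple s then 1 else 0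

theorem hfun_eq_of {s : I} {c y z : C} (h : Δ.δ y c = Δ.δ z c) : hfun Δ R s c y = hfun Δ R s c z := by
  unfold hfun
  rw [h]

/-- constancy on the panels of type `op s` -/
theorem hfun_const {s k : I} (hk : cs.simple k = w0 cs * cs.simple s * w0 cs) {c y z : C}
    (hyz : Δ.δ y z = cs.simple k) : hfun Δ R s c z = hfun Δ R s c y := by
  have hkw : cs.simple k * w0 cs = w0 cs * cs.simple s := by
    rw [hk, mul_assoc, F.w0_mul_self, mul_one]
  have hkw' : cs.simple k * (w0 cs * cs.simple s) = w0 cs := by
    rw [← hkw, ← mul_assoc, cs.simple_mul_simple_self, one_mul]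
  have key : ∀ a b : C, Δ.δ a b = cs.simple k → (Δ.δ b c = w0 cs ∨ Δ.δ b c = w0 cs * cs.simple s) →
      (Δ.δ a c = w0 cs ∨ Δ.δ a c = w0 cs * cs.simple s) := by
    intro a b hab h
    rcases Δ.step_left (z := c) hab with h1 | h1
    · rcases h with h | h
      · right; rw [h1, h, hkw]
      · left; rw [h1, h, hkw']
    · rwa [h1]
  unfold hfun
  by_cases h : Δ.δ y c = w0 cs ∨ Δ.δ y c = w0 cs * cs.simple s
  · rw [if_pos h, if_pos (key z y (Δ.δ_symm_simple hyz) h)]
  · rw [if_neg h, if_neg fun h1 => h (key y z hyz h1)]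

/-- the panel of `y` can be described from any other of its chambers -/
theorem psum_congr (g : C → R) {i : I} {x y : C} (h : Δ.δ x y = cs.simple i) :
    g x + ssum Δ g x (cs.simple i) = g y + ssum Δ g y (cs.simple i) := by
  have key : ∀ a : C, g a + ssum Δ g a (cs.simple i) = ∑ d ∈ Finset.univ.filter (fun d => d ∈ Δ.Pan i a), g d := by
    intro a
    have h1 : Finset.univ.filter (fun d => d ∈ Δ.Pan i a) =
        insert a (Finset.univ.filter (fun d => Δ.δ a d = cs.simple i)) := by
      ext d
      simp only [Finset.mem_filter, Finset.mem_univ, true_and, Finset.mem_insert]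
      exact Iff.rfl
    rw [h1, Finset.sum_insert]
    · rfl
    · rw [Finset.mem_filter]
      rintro ⟨-, h2⟩
      exact Δ.ne_of_δ_simple h2 rfl
  rw [key, key]
  refine Finset.sum_congr ?_ fun _ _ => rfl
  ext d
  simp only [Finset.mem_filter, Finset.mem_univ, true_and]
  have hy : y ∈ Δ.Pan i x := Or.inr h
  exact ⟨fun hd => Δ.mem_Pan_trans (Δ.mem_Pan_symm hy) hd, fun hd => Δ.mem_Pan_trans hy hd⟩

/-- zero sums over the other panels -/
theorem hfun_zero (hq : ∀ i x, ((Finset.univ.filter (fun d => Δ.δ x d = cs.simple i)).card : R) = 0) {s k : I}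
    (hk : cs.simple k = w0 cs * cs.simple s * w0 cs) {i : I} (hik : i ≠ k) (c y : C) :
    hfun Δ R s c y + ssum Δ (hfun Δ R s c) y (cs.simple i) = 0 := by
  have hkw : cs.simple k * w0 cs = w0 cs * cs.simple s := by
    rw [hk, mul_assoc, F.w0_mul_self, mul_one]
  -- the chamber of the panel nearest to `c`
  obtain ⟨y0, hy0, hlt⟩ : ∃ y0, (y0 = y ∨ Δ.δ y y0 = cs.simple i) ∧
      ℓ (Δ.δ y0 c) < ℓ (cs.simple i * Δ.δ y0 c) := by
    rcases cs.length_simple_mul (Δ.δ y c) i with h | h
    · exact ⟨y, Or.inl rfl, by omega⟩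
    · obtain ⟨z, hz1, hz2⟩ := Δ.exists_between (x := y) (z := c) (v := cs.simple i) (w := cs.simple i * Δ.δ y c)
        (by rw [← mul_assoc, cs.simple_mul_simple_self, one_mul])
        (by rw [← mul_assoc, cs.simple_mul_simple_self, one_mul, cs.length_simple]; omega)
      refine ⟨z, Or.inr hz1, ?_⟩
      rw [hz2, ← mul_assoc, cs.simple_mul_simple_self, one_mul]
      omega
  have h1 : hfun Δ R s c y + ssum Δ (hfun Δ R s c) y (cs.simple i) =
      hfun Δ R s c y0 + ssum Δ (hfun Δ R s c) y0 (cs.simple i) := by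
    rcases hy0 with rfl | h
    · rfl
    · exact psum_congr _ h
  rw [h1]
  have h2 : ssum Δ (hfun Δ R s c) y0 (cs.simple i) = 0 := by
    have h3 : ∀ d, Δ.δ y0 d = cs.simple i → Δ.δ d c = cs.simple i * Δ.δ y0 c := fun d hd =>
      Δ.step_lt_left (Δ.δ_symm_simple hd) hlt
    rcases (Finset.univ.filter (fun d => Δ.δ y0 d = cs.simple i)).eq_empty_or_nonempty with he | ⟨d0, hd0⟩
    · rw [ssum_def, he, Finset.sum_empty]
    · rw [ssum_def, Finset.sum_congr rfl (g := fun _ => hfun Δ R s c d0), Finset.sum_const, nsmul_eq_mul, hq,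
        zero_mul]
      intro d hd
      exact hfun_eq_of (by rw [h3 d (Finset.mem_filter.1 hd).2, h3 d0 (Finset.mem_filter.1 hd0).2])
  rw [h2, add_zero]
  unfold hfun
  rw [if_neg]
  rintro (h | h)
  · -- `w₀` has no ascents
    have h4 := F.len_mul_w0 (cs.simple i)
    rw [cs.length_simple] at h4
    rw [h] at hlt
    omega
  · -- ascents of `w₀ s = s_k w₀`
    rw [h, ← hkw, ← mul_assoc] at hlt
    have h4 := F.len_mul_w0 (cs.simple k)
    have h5 := F.len_mul_w0 (cs.simple i * cs.simple k)
    have hne : cs.simple i ≠ cs.simple k := fun h => hik (F.inj h)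
    rw [cs.length_simple] at h4
    rw [len_two hne] at h5
    omega

/-! ### The matrix -/

/-- **Every chamber opposite to its image.** -/
theorem isNilpotent_card (hq : ∀ i x, ((Finset.univ.filter (fun d => Δ.δ x d = cs.simple i)).card : R) = 0)
    (θ : C ≃ C) (φ : W ≃* W) (σ : I → I) (hφ : ∀ i, φ (cs.simple i) = cs.simple (σ i))
    (hσ : Function.Surjective σ) (hδ : ∀ x y, Δ.δ (θ x) (θ y) = φ (Δ.δ x y)) (hopp : ∀ x, Δ.δ x (θ x) = w0 cs)
    (hconn : ∀ i, ∃ j, cs.simple j * cs.simple i ≠ cs.simple i * cs.simple j) [Nonempty I] :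
    IsNilpotent (Fintype.card C : R) := by
  obtain ⟨s⟩ := (inferInstance : Nonempty I)
  obtain ⟨t, ht⟩ := hσ (Core.op cs s)
  have hk : cs.simple (σ t) = w0 cs * cs.simple s * w0 cs := by rw [ht]; exact F.op s
  have hσinj : Function.Injective σ := by
    intro a b hab
    apply F.inj
    apply φ.injective
    rw [hφ, hφ, hab]
  have hθs : ∀ x d i, Δ.δ (θ x) (θ d) = cs.simple (σ i) ↔ Δ.δ x d = cs.simple i := by
    intro x d i
    rw [hδ, ← hφ, φ.injective.eq_iff]
  -- the sums over panels of `f ∘ θ`
  have hsum : ∀ (f : C → R) (x : C) (i : I), ssum Δ (fun b => f (θ b)) x (cs.simple i) =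
      ssum Δ f (θ x) (cs.simple (σ i)) := by
    intro f x i
    unfold ssum
    refine Finset.sum_bij (fun d _ => θ d) ?_ ?_ ?_ ?_
    · intro d hd
      rw [Finset.mem_filter] at hd ⊢
      exact ⟨Finset.mem_univ _, (hθs x d i).2 hd.2⟩
    · intro a _ b _ h
      exact θ.injective h
    · intro d hd
      rw [Finset.mem_filter] at hd
      refine ⟨θ.symm d, ?_, θ.apply_symm_apply d⟩
      rw [Finset.mem_filter]
      refine ⟨Finset.mem_univ _, ?_⟩
      rw [← hθs, θ.apply_symm_apply]
      exact hd.2
    · intro d _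
      rfl
  have hgood : ∀ c, Good Δ (fun b => hfun Δ R s c (θ b)) t := by
    intro c
    refine ⟨?_, ?_, fun x => hq t x⟩
    · intro i hi x
      rw [hsum]
      exact hfun_zero hq hk (fun h => hi (hσinj h)) c (θ x)
    · intro x d hxd
      exact hfun_const hk ((hθs x d t).2 hxd)
  -- the matrix
  let Φ : Matrix C C R := Matrix.of fun a b => hfun Δ R s b (θ a)
  have hΦ : ∀ a b, Φ a b = hfun Δ R s b (θ a) := fun a b => rfl
  have hsq : Φ * Φ = 0 := by
    ext a c
    rw [Matrix.mul_apply, Matrix.zero_apply]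
    have h1 : ∀ b, Φ a b * Φ b c = if Δ.δ (θ a) b = w0 cs ∨ Δ.δ (θ a) b = w0 cs * cs.simple s then
        hfun Δ R s c (θ b) else 0 := by
      intro b
      rw [hΦ, hΦ]
      unfold hfun
      by_cases h : Δ.δ (θ a) b = w0 cs ∨ Δ.δ (θ a) b = w0 cs * cs.simple s
      · rw [if_pos h, if_pos h, one_mul]
      · rw [if_neg h, if_neg h, zero_mul]
    rw [Finset.sum_congr rfl fun b _ => h1 b, ← Finset.sum_filter, Finset.filter_or, Finset.sum_union]
    · have h2 := (hgood c).w0_eq (θ a)
      have h3 := (hgood c).w0_simple_eq (θ a) s (fun _ => hconn t)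
      rw [ssum_def] at h2 h3
      rw [h2, h3, add_zero]
    · rw [Finset.disjoint_left]
      intro b hb hb'
      rw [Finset.mem_filter] at hb hb'
      have h4 := hb.2.symm.trans hb'.2
      have h5 := len_w0_simple (cs := cs) s
      rw [← h4] at h5
      omega
  have hnil : IsNilpotent Φ := ⟨2, by rw [pow_two]; exact hsq⟩
  have htr := Matrix.isNilpotent_trace_of_isNilpotent hnil
  have h6 : Φ.trace = (Fintype.card C : R) := by
    rw [Matrix.trace, Finset.sum_congr rfl (g := fun _ => (1 : R)), Finset.sum_const, nsmul_eq_mul, mul_one,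
      Finset.card_univ]
    intro a _
    rw [Matrix.diag_apply, hΦ]
    unfold hfun
    rw [if_pos]
    left
    rw [Δ.symm a (θ a), hopp, F.w0_inv]
  rwa [h6] at htr

end Spheres

end Cfsg.Agent.H606.Opp
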