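import Mathlib
import Cfsg.Agent.FixBN.Disp
import Cfsg.Agent.H606.OppPsum

/-!
# The centralizer of the unipotent radical of a proper parabolic subgroup

`G` is a group with a split (B,N)-pair of characteristic `p` seen through its building `Δ` (`FixBN.Sys`), faithful on the
chambers, and the Coxeter diagram is connected. For a proper residue `R` the centralizer of the unipotent radical
`UR R` of the stabiliser of `R` is contained in `UR R`.
-/

set_option autoImplicit false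
set_option linter.unusedSectionVars false

open scoped Pointwise

namespace Cfsg.Agent.H606.CentRad

open Cfsg.Agent.Tits.Core Cfsg.Agent.Tits.Core.Bldg Cfsg.Agent.Tits Cfsg.Agent.Tits.Exchange
open Cfsg.Agent.FixBN Cfsg.Agent.FixBN.Cox Cfsg.Agent.H606.Opp

variable {I : Type*} {M : CoxeterMatrix I} {W : Type*} [Group W] {cs : CoxeterSystem M W} {C : Type*}

local prefix:100 "ℓ" => cs.length

/-- The diagram is connected. -/
def Conn (cs : CoxeterSystem M W) : Prop :=
  ∀ K : Set I, K.Nonempty → (∀ i ∈ K, ∀ j ∉ K, cs.simple i * cs.simple j = cs.simple j * cs.simple i) →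
    K = Set.univ

variable {Δ : Bldg cs C} {G : Type*} [Group G] [MulAction G C] {p : ℕ} (S : Sys Δ G p)
  [F : OppRes.Cox cs]

include S

/-- `U x ∩ U y` is transitive on the panels of `y` leading away from `x`. -/
theorem trans_asc {x y z z' : C} {i : I} (h : ℓ (Δ.δ x y) < ℓ (Δ.δ x y * cs.simple i))
    (hz : Δ.δ y z = cs.simple i) (hz' : Δ.δ y z' = cs.simple i) :
    ∃ u ∈ S.U x, u ∈ S.U y ∧ u • z = z' := by
  have h1 := Δ.step_lt x y z i hz h
  have h1' := Δ.step_lt x y z' i hz' h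
  obtain ⟨u, hu, huz⟩ := S.exists_move (h1.trans h1'.symm)
  have hl : ℓ (Δ.δ x y * cs.simple i) = ℓ (Δ.δ x y) + ℓ (cs.simple i) := by
    have := cs.length_mul_simple (Δ.δ x y) i
    rw [cs.length_simple]
    omega
  have hy : u • y = y := by
    refine Δ.between_unique hl (x := x) (z := z') ?_ ?_ rfl hz'
    · have := S.iso u x y
      rwa [S.fix x u hu] at this
    · rw [← huz, S.iso, hz]
  exact ⟨u, hu, S.mem_U_of_fix hu hy, huz⟩

theorem len_wJ_simple {J : Set I} {t : I} (ht : t ∉ J) : ℓ (wJ cs J * cs.simple t) = ℓ (wJ cs J) + 1 := by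
  rcases cs.length_mul_simple (wJ cs J) t with h | h
  · exact h
  · exact absurd (F.descent_mem J _ (F.wJ_mem J) t (by omega)) ht

/-- The unipotent radical is transitive on the panels leading out of the residue. -/
theorem UR_trans (hth : Δ.Thick) {J : Set I} {e z z' : C} {t : I} (ht : t ∉ J) (hz : Δ.δ e z = cs.simple t)
    (hz' : Δ.δ e z' = cs.simple t) : ∃ u ∈ S.UR (Δ.Res J e), u • z = z' := by
  obtain ⟨f, hf⟩ := Δ.exists_δ e (wJ cs J)
  have hf' : Δ.δ f e = wJ cs J := by rw [Δ.symm e f, hf, F.wJ_inv]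
  obtain ⟨u, hu, hu', huz⟩ := trans_asc S (x := f) (y := e) (i := t)
    (by rw [hf', len_wJ_simple S ht]; omega) hz hz'
  exact ⟨u, S.mem_UR_of_fix hth hu' hf (S.fix f u hu), huz⟩

/-- The chambers fixed by the unipotent radical. -/
theorem mem_of_fix_UR (hth : Δ.Thick) {J : Set I} {e f : C} (h : ∀ u ∈ S.UR (Δ.Res J e), u • f = f) :
    f ∈ Δ.Res J e := by
  by_contra hf
  have hp := Δ.isProj_proj J e f
  set e0 := Δ.proj J e f
  have hne : Δ.δ e0 f ≠ 1 := by
    intro h1
    rw [← Δ.eq_of_δ_eq_one h1] at hf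
    exact hf hp.mem
  obtain ⟨t, ht⟩ := cs.exists_leftDescent_of_ne_one hne
  have ht' : ℓ (cs.simple t * Δ.δ e0 f) < ℓ (Δ.δ e0 f) := ht
  have htJ : t ∉ J := by
    intro htJ
    have h1 := hp.isMinR _ (simple_mem_WJ cs htJ)
    have h2 := cs.length_inv (cs.simple t * Δ.δ e0 f)
    rw [mul_inv_rev, cs.inv_simple, ← Δ.symm] at h2
    rw [cs.length_simple, Δ.length_δ_comm e0 f] at h1
    omega
  obtain ⟨z, hz, hz'⟩ := exists_first Δ ht'
  have hfe : ∀ u ∈ S.UR (Δ.Res J e), u • e0 = e0 := fun u hu => S.fix _ u (hu e0 hp.mem)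
  have hfz : ∀ u ∈ S.UR (Δ.Res J e), u • z = z :=
    S.conv_fix (S.UR (Δ.Res J e) : Set G) e0 hfe f h z t hz hz' ht'
  obtain ⟨z', hz'P, hz'1, hz'2⟩ := hth.exists_third (i := t) (x := e0) e0 z
  have hz'δ : Δ.δ e0 z' = cs.simple t := by
    rcases hz'P with h1 | h1
    · exact absurd h1 hz'1
    · exact h1
  obtain ⟨u, hu, huz⟩ := UR_trans S hth htJ hz hz'δ
  rw [Δ.Res_eq_of_mem hp.mem] at hu
  exact hz'2 (huz.symm.trans (hfz u hu))

omit F in
theorem conj_UR {R : Set C} {u g : G} (hu : u • R = R) (hg : g ∈ S.UR R) : u * g * u⁻¹ ∈ S.UR R := by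
  have h1 := (S.conj_mem_UR_iff (g := u)).2 hg
  rwa [hu] at h1

/-- The centralizer of the unipotent radical. -/
def cen (R : Set C) : Subgroup G := Subgroup.centralizer (S.UR R : Set G)

omit F in
theorem mem_cen {R : Set C} {g : G} : g ∈ cen S R ↔ ∀ u ∈ S.UR R, u * g = g * u := by
  unfold cen
  rw [Subgroup.mem_centralizer_iff]
  exact Iff.rfl

omit F in
theorem conj_cen {R : Set C} {u g : G} (hu : u • R = R) (hg : g ∈ cen S R) : u * g * u⁻¹ ∈ cen S R := by
  rw [mem_cen] at hg ⊢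
  intro v hv
  have hu' : u⁻¹ • R = R := by rw [inv_smul_eq_iff, hu]
  have h1 := hg _ (conj_UR S hu' hv)
  rw [inv_inv] at h1
  calc v * (u * g * u⁻¹) = u * (u⁻¹ * v * u * g) * u⁻¹ := by group
    _ = u * (g * (u⁻¹ * v * u)) * u⁻¹ := by rw [h1]
    _ = _ := by group

theorem smul_Res_of_mem {J : Set I} {e x : C} {u : G} (hx : x ∈ Δ.Res J e) (hu : u • x ∈ Δ.Res J e) :
    u • Δ.Res J e = Δ.Res J e := by
  rw [← Δ.Res_eq_of_mem hx, S.smul_Res, Δ.Res_eq_of_mem hx]
  exact Δ.Res_eq_of_mem hu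

theorem cen_smul_mem (hth : Δ.Thick) {J : Set I} {e f : C} {k : G} (hk : k ∈ cen S (Δ.Res J e))
    (hf : f ∈ Δ.Res J e) : k • f ∈ Δ.Res J e := by
  apply mem_of_fix_UR S hth
  intro u hu
  rw [← mul_smul, (mem_cen S).1 hk u hu, mul_smul, S.fix f u (hu f hf)]

/-- (b2) first form -/
theorem exists_cen_aux (hth : Δ.Thick) {J : Set I} {e0 e : C} {k : G} (hk : k ∈ cen S (Δ.Res J e0))
    (he : e ∈ Δ.Res J e0) {i : I} (hi : ℓ (cs.simple i * Δ.δ e (k • e)) < ℓ (Δ.δ e (k • e))) :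
    ∃ k' ∈ cen S (Δ.Res J e0), Δ.δ e (k' • e) = cs.simple i := by
  obtain ⟨z, hz, hz'⟩ := exists_first Δ hi
  obtain ⟨x, hxP, hx1, hx2⟩ := hth.exists_third (i := i) (x := e) e z
  have hxe : Δ.δ e x = cs.simple i := by
    rcases hxP with h1 | h1
    · exact absurd h1 hx1
    · exact h1
  have hxz : Δ.δ x z = cs.simple i := Δ.δ_eq_of_mem_Pan hxP (Δ.mem_Pan_of_δ hz) hx2
  have h1 : Δ.δ x (k • e) = Δ.δ e (k • e) := by
    have h2 := Δ.step_lt_left (z := k • e) hxz (by
      rw [hz', ← mul_assoc, cs.simple_mul_simple_self, one_mul]; exact hi)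
    rw [h2, hz', ← mul_assoc, cs.simple_mul_simple_self, one_mul]
  have h3 : Δ.δ (k • e) e = Δ.δ (k • e) x := by rw [Δ.symm e (k • e), Δ.symm x (k • e), h1]
  obtain ⟨u, hu, hue⟩ := S.exists_move h3
  have hke := cen_smul_mem S hth hk he
  have huR : u • Δ.Res J e0 = Δ.Res J e0 := smul_Res_of_mem S hke (by rw [S.fix _ u hu]; exact hke)
  have hv : k⁻¹ * u * k ∈ S.U e := by
    have := S.conj_mem_U hu k⁻¹
    rwa [inv_smul_smul, inv_inv] at this
  refine ⟨u * k⁻¹ * u⁻¹ * k, mul_mem (conj_cen S huR (inv_mem hk)) hk, ?_⟩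
  have h4 : u * k⁻¹ * u⁻¹ * k = u * (k⁻¹ * u * k)⁻¹ := by group
  rw [h4, mul_smul, S.fix e _ (inv_mem hv), hue, hxe]

/-- Chambers of a residue are conjugate in its stabiliser (adjacent chambers). -/
theorem exists_swap (hth : Δ.Thick) {J : Set I} {e0 y z : C} (hy : y ∈ Δ.Res J e0) {j : I} (hj : j ∈ J)
    (hyz : Δ.δ y z = cs.simple j) : ∃ u : G, u • Δ.Res J e0 = Δ.Res J e0 ∧ u • y = z := by
  obtain ⟨x, hxP, hx1, hx2⟩ := hth.exists_third (i := j) (x := y) y z
  have hxy : Δ.δ x y = cs.simple j := Δ.δ_eq_of_mem_Pan hxP (Δ.self_mem_Pan j y) hx1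
  have hxz : Δ.δ x z = cs.simple j := Δ.δ_eq_of_mem_Pan hxP (Δ.mem_Pan_of_δ hyz) hx2
  obtain ⟨u, hu, huy⟩ := S.exists_move (hxy.trans hxz.symm)
  have hx : x ∈ Δ.Res J e0 := Δ.mem_Res_trans hy (Δ.Pan_subset_Res hj y hxP)
  exact ⟨u, smul_Res_of_mem S hx (by rw [S.fix x u hu]; exact hx), huy⟩

/-- transport to the other chambers of the residue -/
theorem exists_cen_all (hth : Δ.Thick) {J : Set I} {e : C} {k : G} (hk : k ∈ cen S (Δ.Res J e)) {i : I}
    (hi : Δ.δ e (k • e) = cs.simple i) {y : C} (hy : y ∈ Δ.Res J e) :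
    ∃ k' ∈ cen S (Δ.Res J e), Δ.δ y (k' • y) = cs.simple i := by
  refine Δ.Res_induction (J := J) (x := e) (p := fun y => ∃ k' ∈ cen S (Δ.Res J e), Δ.δ y (k' • y) = cs.simple i)
    ⟨k, hk, hi⟩ ?_ hy
  rintro y hy z j hj hyz ⟨k', hk', hk'i⟩
  obtain ⟨u, hu, huy⟩ := exists_swap S hth hy hj hyz
  refine ⟨u * k' * u⁻¹, conj_cen S hu hk', ?_⟩
  rw [← huy, mul_smul, inv_smul_smul, mul_smul, S.iso, hk'i]

theorem mem_of_cen (hth : Δ.Thick) {J : Set I} {e y : C} {k : G} (hk : k ∈ cen S (Δ.Res J e)) {i : I}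
    (hy : y ∈ Δ.Res J e) (hi : Δ.δ y (k • y) = cs.simple i) : i ∈ J := by
  have h1 := cen_smul_mem S hth hk hy
  have h2 := Δ.δ_mem_of_mem_Res hy h1
  rw [hi] at h2
  refine F.descent_mem J _ h2 i ?_
  rw [cs.simple_mul_simple_self, cs.length_one, cs.length_simple]
  exact Nat.one_pos

/-- (b3) -/
theorem comm_out (hth : Δ.Thick) {J : Set I} {e : C} {k : G} (hk : k ∈ cen S (Δ.Res J e)) {i t : I}
    (hi : Δ.δ e (k • e) = cs.simple i) (ht : t ∉ J) : cs.simple i * cs.simple t = cs.simple t * cs.simple i := by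
  by_contra hne
  have hiJ : i ∈ J := mem_of_cen S hth hk (Δ.self_mem_Res J e) hi
  have hit : cs.simple i ≠ cs.simple t := fun h => hne (by rw [h])
  obtain ⟨y, hy⟩ := Δ.exists_δ (k • e) (cs.simple t)
  have hey : Δ.δ e y = cs.simple i * cs.simple t :=
    Δ.δ_mul_of hi hy (by rw [len_two hit, cs.length_simple, cs.length_simple])
  have h3 : ℓ (cs.simple t * cs.simple i * cs.simple t) = 3 := len_three (Ne.symm hne)
  -- the chamber `h`
  have hw0t : ℓ (cs.simple t * w0 cs) + 1 = ℓ (w0 cs) := by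
    have := F.len_mul_w0 (cs.simple t)
    rwa [cs.length_simple] at this
  have e3 := F.len_mul_w0 (cs.simple t * cs.simple i * cs.simple t)
  rw [h3] at e3
  have hgrp : (cs.simple i * cs.simple t)⁻¹ * (cs.simple t * w0 cs) =
      cs.simple t * cs.simple i * cs.simple t * w0 cs := by
    rw [mul_inv_rev, cs.inv_simple, cs.inv_simple, mul_assoc, mul_assoc, mul_assoc]
  obtain ⟨h, hh⟩ := Δ.exists_δ y ((cs.simple i * cs.simple t)⁻¹ * (cs.simple t * w0 cs))
  have hl1 : ℓ (cs.simple i * cs.simple t * ((cs.simple i * cs.simple t)⁻¹ * (cs.simple t * w0 cs))) =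
      ℓ (cs.simple i * cs.simple t) + ℓ ((cs.simple i * cs.simple t)⁻¹ * (cs.simple t * w0 cs)) := by
    rw [mul_inv_cancel_left, hgrp, len_two hit]
    omega
  have heh : Δ.δ e h = cs.simple t * w0 cs := by
    have := Δ.δ_mul_of hey hh hl1
    rwa [mul_inv_cancel_left] at this
  -- two chambers of the `t`-panel of `e`
  obtain ⟨z1, z2, hz12, hz1, hz2⟩ := hth e t
  have hhe : Δ.δ h e = w0 cs * cs.simple t := by
    rw [Δ.symm e h, heh, mul_inv_rev, cs.inv_simple, F.w0_inv]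
  obtain ⟨u, huh, hue, huz⟩ := trans_asc S (x := h) (y := e) (i := t) (by
    rw [hhe, mul_assoc, cs.simple_mul_simple_self, mul_one]
    have := F.len_w0_mul (cs.simple t)
    rw [cs.length_simple] at this
    omega) hz1 hz2
  -- `u` fixes `y`
  have huy : u • y = y := by
    refine Δ.between_unique hl1 (x := e) (z := h) ?_ ?_ hey hh
    · have := S.iso u e y
      rw [S.fix e u hue] at this
      rw [this, hey]
    · have := S.iso u y h
      rw [S.fix h u huh] at this
      rw [this, hh]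
  -- `u` fixes a chamber opposite to `e` in the residue
  have hgrp2 : wJ cs J * (wJ cs J * cs.simple t * w0 cs) = cs.simple t * w0 cs := by
    rw [mul_assoc, ← mul_assoc (wJ cs J), F.wJ_mul_self, one_mul]
  have hl2 : ℓ (wJ cs J * (wJ cs J * cs.simple t * w0 cs)) = ℓ (wJ cs J) + ℓ (wJ cs J * cs.simple t * w0 cs) := by
    have e4 := F.len_mul_w0 (wJ cs J * cs.simple t)
    rw [len_wJ_simple S ht] at e4
    rw [hgrp2]
    omega
  obtain ⟨f, hf1, hf2⟩ := Δ.exists_between (x := e) (z := h) (v := wJ cs J)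
    (w := wJ cs J * cs.simple t * w0 cs) (by rw [hgrp2, heh]) hl2
  have huf : u • f = f := by
    refine Δ.between_unique hl2 (x := e) (z := h) ?_ ?_ hf1 hf2
    · have := S.iso u e f
      rw [S.fix e u hue] at this
      rw [this, hf1]
    · have := S.iso u f h
      rw [S.fix h u huh] at this
      rw [this, hf2]
  have huR : u ∈ S.UR (Δ.Res J e) := S.mem_UR_of_fix hth hue hf1 huf
  -- the contradiction
  have hcomm := (mem_cen S).1 hk u huR
  have h5 : u • k⁻¹ • y = k⁻¹ • y := by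
    have h6 : u * k⁻¹ = k⁻¹ * u := by
      calc u * k⁻¹ = k⁻¹ * (k * u) * k⁻¹ := by group
        _ = k⁻¹ * (u * k) * k⁻¹ := by rw [hcomm]
        _ = _ := by group
    rw [← mul_smul, h6, mul_smul, huy]
  have h7 : Δ.δ e (k⁻¹ • y) = cs.simple t := by
    rw [← S.iso k e, smul_inv_smul, hy]
  have h8 := S.pan e (k⁻¹ • y) t h7 u hue h5 z1 (Δ.mem_Pan_of_δ hz1)
  exact hz12 (h8.symm.trans huz)

/-- (b4) -/
theorem exists_cen_of_not_comm (hth : Δ.Thick) {J : Set I} {e : C} {k : G} (hk : k ∈ cen S (Δ.Res J e)) {i j : I}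
    (hi : Δ.δ e (k • e) = cs.simple i) (hj : j ∈ J) (hne : cs.simple i * cs.simple j ≠ cs.simple j * cs.simple i) :
    ∃ k' ∈ cen S (Δ.Res J e), Δ.δ e (k' • e) = cs.simple j := by
  have hij : cs.simple i ≠ cs.simple j := fun h => hne (by rw [h])
  obtain ⟨y, hy⟩ := Δ.exists_δ (k • e) (cs.simple j)
  have hex : Δ.δ e (k⁻¹ • y) = cs.simple j := by
    rw [← S.iso k e, smul_inv_smul, hy]
  have hxR : k⁻¹ • y ∈ Δ.Res J e := Δ.Pan_subset_Res hj e (Δ.mem_Pan_of_δ hex)
  have h1 : Δ.δ (k⁻¹ • y) (k • e) = cs.simple j * cs.simple i :=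
    Δ.δ_mul_of (Δ.δ_symm_simple hex) hi (by rw [len_two hij.symm, cs.length_simple, cs.length_simple])
  have h3 : ℓ (cs.simple j * cs.simple i * cs.simple j) = 3 := len_three (Ne.symm hne)
  have h2 : Δ.δ (k⁻¹ • y) y = cs.simple j * cs.simple i * cs.simple j :=
    Δ.δ_mul_of h1 hy (by rw [h3, len_two hij.symm, cs.length_simple])
  obtain ⟨k', hk', hk'j⟩ := exists_cen_aux S hth hk hxR (i := j) (by
    rw [smul_inv_smul, h2, h3, ← mul_assoc, ← mul_assoc, cs.simple_mul_simple_self, one_mul, len_two hij]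
    norm_num)
  have hRe := Δ.Res_eq_of_mem hxR
  rw [← hRe] at hk' ⊢
  exact exists_cen_all S hth hk' hk'j (Δ.mem_Res_symm hxR)

/-- The centralizer of the unipotent radical fixes the chambers of the residue. -/
theorem cen_fix (hth : Δ.Thick) (hconn : Conn cs) {J : Set I} (hJ : J ≠ Set.univ) {e : C} {k : G}
    (hk : k ∈ cen S (Δ.Res J e)) {y : C} (hy : y ∈ Δ.Res J e) : k • y = y := by
  by_contra hky
  have hne : Δ.δ y (k • y) ≠ 1 := fun h => hky (Δ.eq_of_δ_eq_one h).symm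
  obtain ⟨i, hi⟩ := cs.exists_leftDescent_of_ne_one hne
  obtain ⟨k1, hk1, hk1i⟩ := exists_cen_aux S hth hk hy hi
  have hRy := Δ.Res_eq_of_mem hy
  rw [← hRy] at hk1
  set K : Set I := {j | ∃ k' ∈ cen S (Δ.Res J y), Δ.δ y (k' • y) = cs.simple j} with hK
  have hKJ : K ⊆ J := fun j ⟨k', hk', hj⟩ => mem_of_cen S hth hk' (Δ.self_mem_Res J y) hj
  have hKu : K = Set.univ := by
    refine hconn K ⟨i, k1, hk1, hk1i⟩ ?_
    rintro a ⟨k', hk', ha⟩ b hb
    by_cases hbJ : b ∈ J
    · by_contra hab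
      exact hb (exists_cen_of_not_comm S hth hk' ha hbJ hab)
    · exact comm_out S hth hk' ha hbJ
  exact hJ (Set.eq_univ_of_univ_subset (hKu ▸ hKJ))

/-- The `p'`-elements of the centralizer are trivial. -/
theorem cen_eq_one [Fact p.Prime] (hth : Δ.Thick) (hconn : Conn cs) (hfaith : ∀ g : G, (∀ c : C, g • c = c) → g = 1)
    {J : Set I} (hJ : J ≠ Set.univ) {e : C} {g : G} (hg : g ∈ cen S (Δ.Res J e)) {n : ℕ}
    (hn : n.Coprime p) (hgn : g ^ n = 1) : g = 1 := by
  have hfix := fun y (hy : y ∈ Δ.Res J e) => cen_fix S hth hconn hJ hg hy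
  have hge : g • e = e := hfix e (Δ.self_mem_Res J e)
  -- `g` fixes the chambers opposite to `e`
  have hopp : ∀ h, Δ.Opp e h → g • h = h := by
    intro h hh
    have hgh : Δ.Opp e (g • h) := by
      have := S.iso g e h
      rw [hge] at this
      exact this.trans hh
    obtain ⟨u, hu, huh⟩ := S.trans e h (g • h) hh hgh
    -- `u` lies in the unipotent radical
    have hw0 : wJ cs J * (wJ cs J * w0 cs) = w0 cs := by rw [← mul_assoc, F.wJ_mul_self, one_mul]
    have hl : ℓ (wJ cs J * (wJ cs J * w0 cs)) = ℓ (wJ cs J) + ℓ (wJ cs J * w0 cs) := by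
      have := F.len_mul_w0 (wJ cs J)
      rw [hw0]
      omega
    obtain ⟨f, hf1, hf2⟩ := Δ.exists_between (x := e) (z := h) (v := wJ cs J) (w := wJ cs J * w0 cs)
      (by rw [hw0]; exact hh) hl
    have hfR : f ∈ Δ.Res J e := by rw [mem_Res, hf1]; exact F.wJ_mem J
    have huf : u • f = f := by
      refine Δ.between_unique hl (x := e) (z := g • h) ?_ ?_ hf1 ?_
      · have := S.iso u e f
        rw [S.fix e u hu] at this
        rw [this, hf1]
      · rw [← huh, S.iso, hf2]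
      · have := S.iso g f h
        rw [hfix f hfR] at this
        rw [this, hf2]
    have huR : u ∈ S.UR (Δ.Res J e) := S.mem_UR_of_fix hth hu hf1 huf
    have hcomm : Commute u g := (mem_cen S).1 hg u huR
    have hpow : ∀ m : ℕ, g ^ m • h = u ^ m • h := by
      intro m
      induction m with
      | zero => rw [pow_zero, pow_zero]
      | succ m ih =>
        rw [pow_succ', mul_smul, ih, ← mul_smul, ← (hcomm.pow_left m).eq, mul_smul, ← huh, ← mul_smul, ← pow_succ]
    have hun : u ^ n • h = h := by rw [← hpow, hgn, one_smul]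
    have hun1 : u ^ n = 1 := S.free e h hh _ (pow_mem hu n) hun
    have hu1 : u = 1 := by
      obtain ⟨k, hk⟩ := S.isP e ⟨u, hu⟩
      have hk' : u ^ p ^ k = 1 := by simpa using congrArg Subtype.val hk
      have h1 : orderOf u ∣ n := orderOf_dvd_of_pow_eq_one hun1
      have h2 : orderOf u ∣ p ^ k := orderOf_dvd_of_pow_eq_one hk'
      exact orderOf_eq_one_iff.1 (Nat.eq_one_of_dvd_coprimes (hn.pow_right k) h1 h2)
    rw [← huh, hu1, one_smul]
  -- rigidity
  obtain ⟨h, hh⟩ := Δ.exists_δ e (w0 cs)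
  have hhe : Δ.δ h e = wJ cs Set.univ := by
    rw [Δ.symm e h, hh, F.w0_inv]
    rfl
  apply hfaith
  intro c
  have hgh : g • h = h := hopp h hh
  refine Rigid.rigid hth (J := Set.univ) (c := h) (d := e) (φ := fun c => g • c) (ψ := fun c => c)
    (fun a _ b _ => S.iso g a b) (fun a _ b _ => rfl) ?_ hhe hge c (by rw [Bldg.Res_univ]; trivial)
  intro j _ y hy
  change g • y = y
  by_cases hy' : Δ.Opp e y
  · exact hopp y hy'
  -- `y` is the only chamber of the panel not opposite to `e`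
  have huniq : ∀ y', y' ∈ Δ.Pan j h → ¬ Δ.Opp e y' → y' = y := by
    intro y' hy'P hy'o
    by_contra hne
    have hyh : y ≠ h := fun h1 => hy' (h1 ▸ hh)
    have hyh' : y' ≠ h := fun h1 => hy'o (h1 ▸ hh)
    have h1 : Δ.δ h y = cs.simple j := Δ.δ_eq_of_mem_Pan (Δ.self_mem_Pan j h) hy hyh.symm
    have h2 : Δ.δ h y' = cs.simple j := Δ.δ_eq_of_mem_Pan (Δ.self_mem_Pan j h) hy'P hyh'.symm
    have h3 : Δ.δ y y' = cs.simple j := Δ.δ_eq_of_mem_Pan hy hy'P (Ne.symm hne)
    have h4 : Δ.δ e y = w0 cs * cs.simple j := by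
      rcases Δ.step e h y j h1 with h5 | h5
      · rw [h5, hh]
      · exact absurd (h5.trans hh) hy'
    apply hy'o
    have h5 := Δ.step_lt e y y' j h3 (by
      rw [h4, mul_assoc, cs.simple_mul_simple_self, mul_one]
      have := F.len_w0_mul (cs.simple j)
      rw [cs.length_simple] at this
      omega)
    change Δ.δ e y' = w0 cs
    rw [h5, h4, mul_assoc, cs.simple_mul_simple_self, mul_one]
  apply huniq
  · rcases hy with h1 | h1
    · rw [h1, hgh]; exact Δ.self_mem_Pan j h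
    · right
      have := S.iso g h y
      rw [hgh] at this
      rw [this, h1]
  · intro h1
    apply hy'
    have := S.iso g e y
    rw [hge] at this
    exact this.symm.trans h1

/-- **The centralizer of the unipotent radical of a proper parabolic subgroup is contained in it.** -/
theorem cen_le [Finite G] [hp : Fact p.Prime] (hth : Δ.Thick) (hconn : Conn cs)
    (hfaith : ∀ g : G, (∀ c : C, g • c = c) → g = 1) {J : Set I} (hJ : J ≠ Set.univ) {e : C} :
    cen S (Δ.Res J e) ≤ S.UR (Δ.Res J e) := by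
  have hP : IsPGroup p (cen S (Δ.Res J e)) := by
    rintro ⟨g, hg⟩
    obtain ⟨k, m, hm, hgm⟩ := Nat.exists_eq_pow_mul_and_not_dvd (n := orderOf g) (orderOf_pos g).ne' p hp.1.ne_one
    refine ⟨k, Subtype.ext ?_⟩
    change g ^ p ^ k = 1
    refine cen_eq_one S hth hconn hfaith hJ (pow_mem hg _) (n := m) ?_ ?_
    · exact ((Nat.Prime.coprime_iff_not_dvd hp.1).2 hm).symm
    · rw [← pow_mul, ← hgm, pow_orderOf_eq_one]
  intro g hg y hy
  refine S.max y _ hP ?_ hg
  intro v hv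
  exact cen_fix S hth hconn hJ hv hy

end Cfsg.Agent.H606.CentRad
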