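import Mathlib
import Cfsg.Agent.H606.CentRad

/-!
# THEOREM A, building version

`G` is a finite group with a split (B,N)-pair of characteristic `p`, of rank at least two, with connected diagram,
faithful on its building. If `τ ≠ 1` is an automorphism of `G` (acting on the building), then there is `g` in `G` such
that `g⁻¹ τ(g)` is a nontrivial `p`-element.
-/

set_option autoImplicit false
set_option linter.unusedSectionVars false

open scoped Pointwise

namespace Cfsg.Agent.H606.AuMain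

open Cfsg.Agent.Tits.Core Cfsg.Agent.Tits.Core.Bldg Cfsg.Agent.Tits Cfsg.Agent.Tits.Exchange
open Cfsg.Agent.FixBN Cfsg.Agent.FixBN.Cox Cfsg.Agent.H606.Opp Cfsg.Agent.H606.CentRad

variable {I : Type*} {M : CoxeterMatrix I} {W : Type*} [Group W] {cs : CoxeterSystem M W} {C : Type*}

local prefix:100 "ℓ" => cs.length

/-- An automorphism of `G` with its action on the building. -/
structure Au (Δ : Bldg cs C) (G : Type*) [Group G] [MulAction G C] where
  τ : G ≃* G
  θ : C ≃ C
  φ : W ≃* W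
  σ : I → I
  φ_simple : ∀ i, φ (cs.simple i) = cs.simple (σ i)
  δ_θ : ∀ x y, Δ.δ (θ x) (θ y) = φ (Δ.δ x y)
  θ_smul : ∀ (g : G) x, θ (g • x) = τ g • θ x

/-! ### Coxeter groups -/

section Cox

variable [F : OppRes.Cox cs] {φ : W ≃* W} {σ : I → I} (hφ : ∀ i, φ (cs.simple i) = cs.simple (σ i))

include hφ

theorem sigma_injective : Function.Injective σ := by
  intro a b hab
  apply F.inj
  apply φ.injective
  rw [hφ, hφ, hab]

theorem sigma_surjective [Finite I] : Function.Surjective σ :=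
  Finite.injective_iff_surjective.1 (sigma_injective hφ)

theorem length_map' [Finite I] (w : W) : ℓ (φ w) = ℓ w := by
  apply le_antisymm (length_map_le hφ w)
  have h1 : ∀ j, φ.symm (cs.simple j) = cs.simple (Function.surjInv (sigma_surjective hφ) j) := by
    intro j
    rw [MulEquiv.symm_apply_eq, hφ, Function.surjInv_eq (sigma_surjective hφ) j]
  have h2 := length_map_le h1 (φ w)
  rwa [MulEquiv.symm_apply_apply] at h2

/-- An element whose left descents are transported to right descents by `φ` is a longest element `w_J`. -/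
theorem eq_wJ_of_comm [Finite I] {w : W}
    (h2 : ∀ i, ℓ (cs.simple i * w) < ℓ w → cs.simple i * w = w * cs.simple (σ i)) :
    w = wJ cs {i | ℓ (cs.simple i * w) < ℓ w} := by
  set J : Set I := {i | ℓ (cs.simple i * w) < ℓ w} with hJdef
  have hJ : ∀ i, i ∈ J ↔ ℓ (cs.simple i * w) < ℓ w := fun i => Iff.rfl
  have hcomm : ∀ y ∈ WJ cs J, y * w = w * φ y := by
    intro y hy
    refine Subgroup.closure_induction (p := fun y _ => y * w = w * φ y) ?_ ?_ ?_ ?_ hy
    · rintro _ ⟨i, hi, rfl⟩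
      rw [hφ]
      exact h2 i hi
    · rw [one_mul, map_one, mul_one]
    · intro a b _ _ ha hb
      rw [mul_assoc, hb, ← mul_assoc, ha, mul_assoc, map_mul]
    · intro a _ ha
      rw [map_inv, inv_mul_eq_iff_eq_mul, ← mul_assoc, ha, mul_inv_cancel_right]
  obtain ⟨u, hu, v, hw, hv⟩ := exists_isMinL cs J w
  have hwv : w = v * φ u := by
    have h3 := hcomm u⁻¹ (inv_mem hu)
    rw [map_inv] at h3
    have h4 : u⁻¹ * w = v := by rw [hw]; group
    rw [← h4, h3]
    group
  have hlen := hv u hu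
  rw [← hw] at hlen
  have hv1 : v = 1 := by
    by_contra hne
    obtain ⟨k, hk⟩ := cs.exists_leftDescent_of_ne_one hne
    have hk' : ℓ (cs.simple k * v) < ℓ v := hk
    have h5 : k ∈ J := by
      rw [hJ]
      have h6 := cs.length_mul_le (cs.simple k * v) (φ u)
      rw [mul_assoc, ← hwv, length_map' hφ] at h6
      omega
    have h7 := hv _ (simple_mem_WJ cs h5)
    rw [cs.length_simple] at h7
    omega
  have hwu : w = u := by rw [hw, hv1, mul_one]
  have h3 : w⁻¹ = wJ cs J := by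
    refine F.eq_wJ_of_descents (inv_mem (hwu ▸ hu)) fun j hj => ?_
    have h4 := cs.length_inv (cs.simple j * w)
    rw [mul_inv_rev, cs.inv_simple] at h4
    rw [h4, cs.length_inv]
    exact hj
  rw [← inv_inv w, h3, F.wJ_inv]

end Cox

section Main

variable {Δ : Bldg cs C} {G : Type*} [Group G] [MulAction G C] {p : ℕ} (S : Sys Δ G p) (t : Au Δ G)
  [F : OppRes.Cox cs]

include S

omit F in
theorem τ_mem_U {g : G} {x : C} (hg : g ∈ S.U x) : t.τ g ∈ S.U (t.θ x) := by
  have h1 : IsPGroup p ((S.U x).map t.τ.toMonoidHom) := (S.isP x).map _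
  refine S.max (t.θ x) _ h1 ?_ ⟨g, hg, rfl⟩
  rintro _ ⟨v, hv, rfl⟩
  change t.τ v • t.θ x = t.θ x
  rw [← t.θ_smul, S.fix x v hv]

omit F in
theorem mem_U_of_τ {g : G} {x : C} (hg : t.τ g ∈ S.U (t.θ x)) : g ∈ S.U x := by
  have h1 : IsPGroup p ((S.U (t.θ x)).map t.τ.symm.toMonoidHom) := (S.isP _).map _
  refine S.max x _ h1 ?_ ⟨t.τ g, hg, t.τ.symm_apply_apply g⟩
  rintro _ ⟨v, hv, rfl⟩
  change t.τ.symm v • x = x
  apply t.θ.injective
  rw [t.θ_smul, t.τ.apply_symm_apply, S.fix _ v hv]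

/-- No `g⁻¹ τ(g)` is a nontrivial `p`-element. -/
def NoP (S : Sys Δ G p) (t : Au Δ G) : Prop :=
  ∀ g : G, ∀ c : C, g⁻¹ * t.τ g ∈ S.U c → t.τ g = g

variable {S t} (H : NoP S t)

include H

omit F in
theorem fix_inter {u : G} {c : C} (hu : u ∈ S.U c) (hu' : u ∈ S.U (t.θ c)) : t.τ u = u := by
  have h1 : t.τ.symm u ∈ S.U c := mem_U_of_τ S t (by rw [t.τ.apply_symm_apply]; exact hu')
  have h2 := H (t.τ.symm u) c (by
    rw [t.τ.apply_symm_apply]
    exact mul_mem (inv_mem h1) hu)
  rw [t.τ.apply_symm_apply] at h2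
  conv_lhs => rw [h2]
  exact t.τ.apply_symm_apply u

theorem fix_stab [Finite G] [Fact p.Prime] (hth : Δ.Thick) (hconn : Conn cs)
    (hfaith : ∀ g : G, (∀ c : C, g • c = c) → g = 1) {J : Set I} (hJ : J ≠ Set.univ) {e : C}
    (hR : ∀ g ∈ S.UR (Δ.Res J e), t.τ g = g) {g : G} (hg : g • Δ.Res J e = Δ.Res J e) : t.τ g = g := by
  have hy : g⁻¹ * t.τ g ∈ cen S (Δ.Res J e) := by
    rw [mem_cen]
    intro u hu
    have h1 := hR _ (conj_UR S hg hu)
    rw [map_mul, map_mul, map_inv, hR u hu] at h1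
    calc u * (g⁻¹ * t.τ g) = g⁻¹ * (g * u * g⁻¹) * t.τ g := by group
      _ = g⁻¹ * (t.τ g * u * (t.τ g)⁻¹) * t.τ g := by rw [h1]
      _ = _ := by group
  exact H g e (cen_le S hth hconn hfaith hJ hy e (Δ.self_mem_Res J e))

/-- No chamber is fixed unless `τ = 1`. -/
theorem of_fixed [Finite G] [Fact p.Prime] [Nonempty I] (hth : Δ.Thick) (hconn : Conn cs)
    (hfaith : ∀ g : G, (∀ c : C, g • c = c) → g = 1) (hrank : ∀ i : I, ({i} : Set I) ≠ Set.univ) {c : C}
    (hc : t.θ c = c) (g : G) : t.τ g = g := by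
  have hU : ∀ u ∈ S.U c, t.τ u = u := fun u hu => fix_inter H hu (by rw [hc]; exact hu)
  have hstab : ∀ i : I, ∀ g : G, g • Δ.Res {i} c = Δ.Res {i} c → t.τ g = g := fun i g hg =>
    fix_stab H hth hconn hfaith (hrank i) (fun u hu => hU u (hu c (Δ.self_mem_Res _ c))) hg
  have htr : ∀ d : C, ∃ h : G, t.τ h = h ∧ h • c = d := by
    intro d
    refine Δ.Res_induction (J := Set.univ) (x := c) (p := fun d => ∃ h : G, t.τ h = h ∧ h • c = d)
      ⟨1, map_one _, one_smul _ _⟩ ?_ (y := d) (by rw [Res_univ]; trivial)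
    rintro y _ z i _ hyz ⟨h, hh, rfl⟩
    have h1 : Δ.δ c (h⁻¹ • z) = cs.simple i := by rw [← S.iso h, smul_inv_smul, hyz]
    obtain ⟨u, hu, huc⟩ := exists_swap S hth (J := {i}) (e0 := c) (Δ.self_mem_Res _ c) (Set.mem_singleton i) h1
    exact ⟨h * u, by rw [map_mul, hh, hstab i u hu], by rw [mul_smul, huc, smul_inv_smul]⟩
  obtain ⟨h, hh, hhc⟩ := htr (g • c)
  obtain ⟨i⟩ := (inferInstance : Nonempty I)
  have h1 : (h⁻¹ * g) • c = c := by rw [mul_smul, ← hhc, inv_smul_smul]
  have h2 := hstab i (h⁻¹ * g) (by rw [S.smul_Res, h1])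
  rw [map_mul, map_inv, hh] at h2
  exact mul_left_cancel h2

/-- The intersection `U c ∩ U (θ c)`. -/
def VV (S : Sys Δ G p) (t : Au Δ G) (c : C) : Subgroup G := S.U c ⊓ S.U (t.θ c)

omit F in
theorem VV_le {c e : C} (he : ∀ v ∈ VV S t c, v • e = e) : VV S t c ≤ VV S t e := by
  intro v hv
  have h1 : t.τ v = v := fix_inter H hv.1 hv.2
  refine ⟨S.mem_U_of_fix hv.1 (he v hv), S.mem_U_of_fix hv.1 ?_⟩
  have h2 := t.θ_smul v e
  rw [he v hv, h1] at h2
  exact h2.symm

omit H in
theorem exists_moved_right (hth : Δ.Thick) {e z : C} {j : I}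
    (hj : ℓ (Δ.δ e (t.θ e)) < ℓ (Δ.δ e (t.θ e) * cs.simple j)) (hz : Δ.δ (t.θ e) z = cs.simple j) :
    ∃ v ∈ VV S t e, v • z ≠ z := by
  obtain ⟨z', hz'P, hz'1, hz'2⟩ := hth.exists_third (i := j) (x := t.θ e) (t.θ e) z
  obtain ⟨u, hu, hu', huz⟩ := trans_asc S hj hz (Δ.δ_eq_of_mem_Pan (Δ.self_mem_Pan j _) hz'P hz'1.symm)
  exact ⟨u, ⟨hu, hu'⟩, fun h => hz'2 (huz.symm.trans h)⟩

omit H in
theorem exists_moved_left (hth : Δ.Thick) {e z : C} {j : I}
    (hj : ℓ (Δ.δ e (t.θ e)) < ℓ (cs.simple j * Δ.δ e (t.θ e))) (hz : Δ.δ e z = cs.simple j) :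
    ∃ v ∈ VV S t e, v • z ≠ z := by
  obtain ⟨z', hz'P, hz'1, hz'2⟩ := hth.exists_third (i := j) (x := e) e z
  obtain ⟨u, hu, hu', huz⟩ := trans_asc S (x := t.θ e) (y := e) (i := j) (by
    have h1 := cs.length_inv (cs.simple j * Δ.δ e (t.θ e))
    rw [mul_inv_rev, cs.inv_simple, ← Δ.symm] at h1
    rw [h1, Δ.length_δ_comm e (t.θ e)]
    exact hj) hz (Δ.δ_eq_of_mem_Pan (Δ.self_mem_Pan j _) hz'P hz'1.symm)
  exact ⟨u, ⟨hu', hu⟩, fun h => hz'2 (huz.symm.trans h)⟩

/-- Every chamber is opposite to its image if there are no fixed chambers. -/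
theorem all_opp [Finite G] [Finite C] [Finite I] [Fact p.Prime] (hth : Δ.Thick) (hconn : Conn cs)
    (hfaith : ∀ g : G, (∀ c : C, g • c = c) → g = 1) (hnf : ∀ c : C, t.θ c ≠ c) (c1 : C) :
    Δ.δ c1 (t.θ c1) = w0 cs := by
  by_contra h1
  have : Nonempty C := ⟨c1⟩
  obtain ⟨c, hmax⟩ := Finite.exists_max (fun c : C => Nat.card (VV S t c))
  have hmaxe : ∀ e, (∀ v ∈ VV S t c, v • e = e) → VV S t e = VV S t c := by
    intro e he
    exact (Subgroup.eq_of_le_of_card_ge (VV_le H he) (hmax e)).symm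
  set w := Δ.δ c (t.θ c) with hw
  -- the descents
  have hB : ∀ i, ℓ (cs.simple i * w) < ℓ w → cs.simple i * w = w * cs.simple (t.σ i) := by
    intro i hi
    obtain ⟨c', hc', hc'2⟩ := exists_first Δ (x := c) (y := t.θ c) (i := i) hi
    rw [← hw] at hc'2
    have hfc : ∀ v ∈ VV S t c, v • c = c := fun v hv => S.fix c v hv.1
    have hfθ : ∀ v ∈ VV S t c, v • t.θ c = t.θ c := fun v hv => S.fix _ v hv.2
    have hfc' : ∀ v ∈ VV S t c, v • c' = c' :=
      S.conv_fix (VV S t c : Set G) c hfc (t.θ c) hfθ c' i hc' (by rw [← hw]; exact hc'2) hi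
    have hV := hmaxe c' hfc'
    have hθθ : Δ.δ (t.θ c) (t.θ c') = cs.simple (t.σ i) := by rw [t.δ_θ, hc', t.φ_simple]
    have hc'c : Δ.δ c' c = cs.simple i := Δ.δ_symm_simple hc'
    have hsw : cs.simple i * (cs.simple i * w) = w := by
      rw [← mul_assoc, cs.simple_mul_simple_self, one_mul]
    have hleft : ¬ ℓ (Δ.δ c' (t.θ c')) < ℓ (cs.simple i * Δ.δ c' (t.θ c')) := by
      intro hlt
      obtain ⟨v, hv, hvc⟩ := exists_moved_left (S := S) (t := t) hth hlt hc'c
      rw [hV] at hv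
      exact hvc (hfc v hv)
    have hright : ¬ ℓ (Δ.δ c' (t.θ c')) < ℓ (Δ.δ c' (t.θ c') * cs.simple (t.σ i)) := by
      intro hlt
      obtain ⟨v, hv, hvc⟩ := exists_moved_right (S := S) (t := t) hth hlt (Δ.δ_symm_simple hθθ)
      rw [hV] at hv
      exact hvc (hfθ v hv)
    rcases Δ.step c' (t.θ c) (t.θ c') (t.σ i) hθθ with h | h
    · rw [hc'2] at h
      rw [h] at hleft hright
      have e1 : cs.simple i * (cs.simple i * w * cs.simple (t.σ i)) = w * cs.simple (t.σ i) := by
        rw [← mul_assoc, hsw]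
      have e2 : cs.simple i * w * cs.simple (t.σ i) * cs.simple (t.σ i) = cs.simple i * w := by
        rw [mul_assoc, cs.simple_mul_simple_self, mul_one]
      rw [e1] at hleft
      rw [e2] at hright
      have f1 := cs.length_simple_mul (cs.simple i * w * cs.simple (t.σ i)) i
      rw [e1] at f1
      have f2 := cs.length_mul_simple (cs.simple i * w * cs.simple (t.σ i)) (t.σ i)
      rw [e2] at f2
      have f3 := cs.length_simple_mul w i
      rcases fold cs (w := cs.simple i * w) (i := i) (j := t.σ i) (by rw [hsw]; omega) (by omega) with h5 | h5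
      · exfalso
        rw [hsw] at h5
        omega
      · rw [hsw] at h5
        have h6 : cs.simple i * w = w * cs.simple (t.σ i) := by
          conv_rhs => rw [h5]
          rw [mul_assoc, cs.simple_mul_simple_self, mul_one]
        exact h6
    · exfalso
      rw [hc'2] at h
      rw [h, hsw] at hleft
      exact hleft hi
  -- `w = w_J`
  have hwJ := eq_wJ_of_comm t.φ_simple hB
  set J : Set I := {i | ℓ (cs.simple i * w) < ℓ w} with hJ
  have hJu : J ≠ Set.univ := by
    intro hJu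
    rw [hJu] at hwJ
    have hV : VV S t c = ⊥ := by
      rw [eq_bot_iff]
      intro v hv
      rw [Subgroup.mem_bot]
      exact S.free c (t.θ c) hwJ v hv.1 (S.fix _ v hv.2)
    have hasc : ∃ j, ℓ (Δ.δ c1 (t.θ c1)) < ℓ (Δ.δ c1 (t.θ c1) * cs.simple j) := by
      by_contra hcon
      push Not at hcon
      apply h1
      refine F.eq_wJ_of_descents (J := Set.univ) (by rw [WJ_univ]; exact Subgroup.mem_top _) fun j _ => ?_
      exact lt_of_le_of_ne (hcon j) (cs.length_mul_simple_ne _ j)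
    obtain ⟨j, hj⟩ := hasc
    obtain ⟨z, hz⟩ := Δ.exists_δ (t.θ c1) (cs.simple j)
    obtain ⟨v, hv, hvz⟩ := exists_moved_right (S := S) (t := t) hth hj hz
    have h2 := hmax c1
    simp only [hV, Subgroup.card_bot] at h2
    have h3 : VV S t c1 = ⊥ := Subgroup.eq_bot_of_card_le _ h2
    rw [h3, Subgroup.mem_bot] at hv
    rw [hv, one_smul] at hvz
    exact hvz rfl
  have hθR : t.θ c ∈ Δ.Res J c := by
    rw [mem_Res, ← hw, hwJ]
    exact F.wJ_mem J
  have hUR : ∀ g ∈ S.UR (Δ.Res J c), t.τ g = g := fun g hg =>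
    fix_inter H (hg c (Δ.self_mem_Res J c)) (hg _ hθR)
  have hU : ∀ u ∈ S.U c, u • t.θ c = t.θ c := by
    intro u hu
    have h2 := fix_stab H hth hconn hfaith hJu hUR (g := u) (by rw [S.smul_Res, S.fix c u hu])
    have h3 := t.θ_smul u c
    rw [h2, S.fix c u hu] at h3
    exact h3.symm
  -- contradiction
  have hne : w ≠ 1 := fun h => hnf c (Δ.eq_of_δ_eq_one h).symm
  obtain ⟨i, hi⟩ := cs.exists_leftDescent_of_ne_one hne
  obtain ⟨z, hz, hz'⟩ := exists_first Δ (x := c) (y := t.θ c) (i := i) hi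
  have hfz : ∀ u ∈ S.U c, u • z = z :=
    S.conv_fix (S.U c : Set G) c (fun u hu => S.fix c u hu) (t.θ c) hU z i hz hz' hi
  obtain ⟨z', hz'P, hz'1, hz'2⟩ := hth.exists_third (i := i) (x := c) c z
  have h5 : Δ.δ c z' = cs.simple i := Δ.δ_eq_of_mem_Pan (Δ.self_mem_Pan i c) hz'P hz'1.symm
  obtain ⟨u, hu, huz⟩ := S.exists_move (hz.trans h5.symm)
  exact hz'2 (huz.symm.trans (hfz u hu))

omit H in
/-- The number of chambers at simple distance from a chamber is divisible by `p`. -/
theorem card_panel [Finite G] [Finite C] [Fact p.Prime] (hth : Δ.Thick) (x : C) (i : I) :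
    p ∣ Nat.card {d // Δ.δ x d = cs.simple i} := by
  obtain ⟨z, z', hne, hz, hz'⟩ := hth x i
  have h1 : {d | Δ.δ x d = cs.simple i} = MulAction.orbit (S.U x) z := by
    ext d
    constructor
    · intro hd
      obtain ⟨u, hu, huz⟩ := S.exists_move (hz.trans (show Δ.δ x d = cs.simple i from hd).symm)
      exact ⟨⟨u, hu⟩, huz⟩
    · rintro ⟨⟨u, hu⟩, rfl⟩
      change Δ.δ x (u • z) = cs.simple i
      have := S.iso u x z
      rw [S.fix x u hu] at this
      rw [this, hz]
  obtain ⟨n, hn⟩ := (S.isP x).card_orbit z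
  have h2 : Nat.card {d // Δ.δ x d = cs.simple i} = p ^ n := by
    rw [← hn]
    exact Nat.card_congr (Equiv.setCongr h1)
  rw [h2]
  have hn0 : n ≠ 0 := by
    rintro rfl
    rw [pow_zero] at h2
    obtain ⟨h3, h4⟩ := Nat.card_eq_one_iff_unique.1 h2
    exact hne (congrArg Subtype.val (h3.elim (⟨z, hz⟩ : {d // Δ.δ x d = cs.simple i}) ⟨z', hz'⟩))
  exact dvd_pow_self p hn0

omit H in
/-- The number of chambers is `1` modulo `p`. -/
theorem card_modEq [Finite G] [Finite C] [Nonempty C] [Fact p.Prime] (hth : Δ.Thick) :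
    Nat.card C ≡ 1 [MOD p] := by
  obtain ⟨c⟩ := (inferInstance : Nonempty C)
  have h1 := (S.isP c).card_modEq_card_fixedPoints (α := C)
  have h2 : MulAction.fixedPoints (S.U c) C = {c} := by
    ext z
    rw [Set.mem_singleton_iff]
    constructor
    · intro hz
      have h3 := mem_of_fix_UR S hth (J := ∅) (e := c) (f := z) (by
        intro u hu
        exact hz ⟨u, hu c (Δ.self_mem_Res _ c)⟩)
      rwa [Res_empty, Set.mem_singleton_iff] at h3
    · rintro rfl ⟨u, hu⟩
      exact S.fix _ u hu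
  rw [h2] at h1
  simpa using h1

/-- **THEOREM A, building version.** -/
theorem main [Finite G] [Finite C] [Nonempty C] [Finite I] [Nonempty I] [Fact p.Prime] (hth : Δ.Thick)
    (hconn : Conn cs) (hfaith : ∀ g : G, (∀ c : C, g • c = c) → g = 1)
    (hrank : ∀ i : I, ({i} : Set I) ≠ Set.univ) (g : G) : t.τ g = g := by
  classical
  by_cases hf : ∃ c, t.θ c = c
  · obtain ⟨c, hc⟩ := hf
    exact of_fixed H hth hconn hfaith hrank hc g
  · exfalso
    push Not at hf
    have hopp := all_opp H hth hconn hfaith hf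
    have : Fintype C := Fintype.ofFinite C
    have h1 := isNilpotent_card (Δ := Δ) (R := ZMod p) (fun i x => by
      rw [ZMod.natCast_eq_zero_iff]
      have h2 := card_panel (S := S) hth x i
      rwa [Nat.card_eq_fintype_card, Fintype.card_subtype] at h2) t.θ t.φ t.σ t.φ_simple
      (sigma_surjective t.φ_simple) t.δ_θ hopp (by
      intro i
      by_contra hcon
      push Not at hcon
      apply hrank i
      refine hconn {i} ⟨i, rfl⟩ ?_
      rintro a rfl b _
      exact (hcon b).symm)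
    have h2 : (Fintype.card C : ZMod p) = 1 := by
      have h3 := card_modEq (S := S) hth
      rw [Nat.card_eq_fintype_card] at h3
      have := (ZMod.natCast_eq_natCast_iff _ _ _).2 h3
      rwa [Nat.cast_one] at this
    rw [h2] at h1
    exact not_isNilpotent_one h1

end Main

end Cfsg.Agent.H606.AuMain
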